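import Mathlib
import Groth.Agent.FpqcDesc.Basic
import Groth.Agent.ASp.Fpqc
import Groth.Prelude.Def_W4bk4git07Quot
import Groth.Prelude.Def_ChGrp

/-! Equivariant maps of principal bundles are cartesian. -/

set_option autoImplicit false
set_option backward.isDefEq.respectTransparency false
set_option backward.isDefEq.respectTransparency.types false

universe u

open CategoryTheory CategoryTheory.Limits MonoidalCategory CartesianMonoidalCategory MonObj AlgebraicGeometry

namespace Groth.Agent.TorsorCart

theorem isPullback_whiskerLeft {C : Type*} [Category C] [CartesianMonoidalCategory C] (G : C) {N M : C} (g : N ⟶ M) :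
    IsPullback (G ◁ g) (snd G N) (snd G M) g :=
  ⟨⟨by rw [whiskerLeft_snd]⟩,
    ⟨PullbackCone.IsLimit.mk _ (fun s => lift (s.fst ≫ fst G M) s.snd)
      (fun s => by apply CartesianMonoidalCategory.hom_ext <;> simp [s.condition])
      (fun s => by simp)
      (fun s m h1 h2 => by
        apply CartesianMonoidalCategory.hom_ext
        · rw [lift_fst, ← h1, Category.assoc, whiskerLeft_fst]
        · rw [lift_snd, h2])⟩⟩

theorem isPullback_whiskerRight {C : Type*} [Category C] [CartesianMonoidalCategory C] (U : C) {X Y : C} (f : X ⟶ Y) :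
    IsPullback (f ▷ U) (fst X U) (fst Y U) f :=
  ⟨⟨by rw [whiskerRight_fst]⟩,
    ⟨PullbackCone.IsLimit.mk _ (fun s => lift s.snd (s.fst ≫ snd Y U))
      (fun s => by apply CartesianMonoidalCategory.hom_ext <;> simp [s.condition])
      (fun s => by simp)
      (fun s m h1 h2 => by
        apply CartesianMonoidalCategory.hom_ext
        · rw [lift_fst, h2]
        · rw [lift_snd, ← h1, Category.assoc, whiskerRight_snd])⟩⟩

variable {S : Scheme.{u}} {G N M B₁ B₂ : Over S} [GrpObj G]

theorem isPullback_psiY (a : AlgGrp.Action G N) (q : N ⟶ B₁) (h : GIT.IsInvariant a q) [IsIso (GIT.PsiY a q h)] :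
    IsPullback a.act.left (snd G N).left q.left q.left :=
  IsPullback.of_iso_pullback ⟨h.left⟩ (asIso (GIT.PsiY a q h))
    (Limits.pullback.lift_fst _ _ _) (Limits.pullback.lift_snd _ _ _)

/-- An equivariant map of principal bundles is a base change. -/
theorem isPullback_of_equivariant (a : AlgGrp.Action G N) (a' : AlgGrp.Action G M) (g : N ⟶ M)
    (hg : AlgGrp.Action.IsEquivariant a a' g) (q : N ⟶ B₁) (hq : GIT.IsInvariant a q) [IsIso (GIT.PsiY a q hq)]
    [Flat q.left] [Surjective q.left] [QuasiCompact q.left]
    (q' : M ⟶ B₂) (hq' : GIT.IsInvariant a' q') [IsIso (GIT.PsiY a' q' hq')]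
    (φ : B₁ ⟶ B₂) (w : q ≫ φ = g ≫ q') : IsPullback q.left g.left φ.left q'.left := by
  have wl : q.left ≫ φ.left = g.left ≫ q'.left := by
    rw [← Over.comp_left, ← Over.comp_left]; exact congrArg CommaMorphism.left w
  have eg : (G ◁ g).left ≫ a'.act.left = a.act.left ≫ g.left := by
    rw [← Over.comp_left, ← Over.comp_left]; exact congrArg CommaMorphism.left hg.symm
  have hA := ((isPullback_whiskerLeft G g).map (Over.forget S)).paste_horiz (isPullback_psiY a' q' hq')
  change IsPullback ((G ◁ g).left ≫ a'.act.left) (snd G N).left q'.left (g.left ≫ q'.left) at hA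
  rw [eg, ← wl] at hA
  let ψ : N.left ⟶ pullback φ.left q'.left := pullback.lift q.left g.left wl
  let π : pullback q.left (pullback.fst φ.left q'.left) ⟶ pullback φ.left q'.left := pullback.snd _ _
  have hP := IsPullback.of_hasPullback q.left (pullback.fst φ.left q'.left)
  have hB := hP.flip.paste_horiz (IsPullback.of_hasPullback φ.left q'.left).flip
  let θ := hA.flip.isoIsPullback _ _ hB.flip
  have h1 : θ.hom ≫ pullback.fst q.left (pullback.fst φ.left q'.left) = (snd G N).left :=
    hA.flip.isoIsPullback_hom_fst _ _ _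
  have h2 : θ.hom ≫ π ≫ pullback.snd φ.left q'.left = a.act.left ≫ g.left :=
    hA.flip.isoIsPullback_hom_snd _ _ _
  have h3 : θ.hom ≫ π = a.act.left ≫ ψ := by
    apply pullback.hom_ext
    · rw [Category.assoc, Category.assoc, ← pullback.condition, reassoc_of% h1, pullback.lift_fst, hq.left]
    · rw [Category.assoc, h2, Category.assoc, pullback.lift_snd]
  have hbig : IsPullback a.act.left (θ.hom ≫ pullback.fst q.left (pullback.fst φ.left q'.left))
      (ψ ≫ pullback.fst φ.left q'.left) q.left := by
    rw [h1, pullback.lift_fst]; exact isPullback_psiY a q hq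
  have hT : IsPullback θ.hom a.act.left π ψ := (IsPullback.of_bot hbig h3.symm hP.flip).flip
  have : (MorphismProperty.isomorphisms Scheme.{u}) ψ := by
    refine MorphismProperty.of_isPullback_of_descendsAlong
      (Q := (@Surjective ⊓ @Flat ⊓ @QuasiCompact : MorphismProperty Scheme.{u})) hT ⟨⟨?_, ?_⟩, ?_⟩
      (MorphismProperty.isomorphisms.iff _ |>.2 inferInstance)
    · exact MorphismProperty.of_isPullback hP ‹Surjective q.left›
    · exact MorphismProperty.of_isPullback hP ‹Flat q.left›
    · exact MorphismProperty.of_isPullback hP ‹QuasiCompact q.left›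
  haveI : IsIso ψ := this
  exact IsPullback.of_iso_pullback ⟨wl⟩ (asIso ψ) (pullback.lift_fst _ _ _) (pullback.lift_snd _ _ _)

end Groth.Agent.TorsorCart
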